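import Mathlib
import Cfsg.Prelude.Def_Solvable
import Cfsg.Agent.Lib.Solvable.Cores
import Cfsg.Agent.Lib.RankOne.ConstStab

/-!
# Solvable groups of odd order transitive on a vector space up to sign

The Fitting subgroup is cyclic and fixed-point-free, and the group is semilinear of dimension one.
-/

set_option autoImplicit false
set_option linter.style.haveILetI false
set_option linter.unusedSectionVars false

open Cfsg
open scoped commutatorElement

namespace CfsgLib.LocalEvenB.OddTransitive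

variable {D E : Type*} [Group D] [Finite D] [AddCommGroup E] [Finite E] [DistribMulAction D E]
  [FaithfulSMul D E] {q : ℕ}

/-- Transitive on the nonzero vectors up to sign. -/
def PMTransitive (D E : Type*) [Group D] [AddCommGroup E] [DistribMulAction D E] : Prop :=
  ∀ a b : E, a ≠ 0 → b ≠ 0 → ∃ d : D, d • a = b ∨ d • a = -b

theorem PMTransitive.of_transitive (h : ∀ a b : E, a ≠ 0 → b ≠ 0 → ∃ d : D, d • a = b) :
    PMTransitive D E := fun a b ha hb => (h a b ha hb).imp fun _ hd => Or.inl hd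

omit [Finite E] in
theorem card_stabilizer_eq (htrans : PMTransitive D E) (N : Subgroup D) [N.Normal] {a b : E}
    (ha : a ≠ 0) (hb : b ≠ 0) :
    Nat.card (MulAction.stabilizer N a) = Nat.card (MulAction.stabilizer N b) := by
  obtain ⟨d, hd⟩ := htrans a b ha hb
  have key : ∀ n : N, n • b = b ↔ (d⁻¹ * (n : D) * d) • a = a := fun n => by
    rw [mul_smul, mul_smul, inv_smul_eq_iff]
    rcases hd with h | h
    · rw [h]; exact Iff.rfl
    · rw [h, smul_neg, neg_inj]; exact Iff.rfl
  refine Nat.card_congr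
    { toFun := fun n => ⟨⟨d * (n.1 : D) * d⁻¹, ‹N.Normal›.conj_mem _ n.1.2 d⟩, (key _).mpr ?_⟩
      invFun := fun n => ⟨⟨d⁻¹ * (n.1 : D) * d, by simpa using ‹N.Normal›.conj_mem _ n.1.2 d⁻¹⟩, ?_⟩
      left_inv := fun n => by ext; simp [mul_assoc]
      right_inv := fun n => by ext; simp [mul_assoc] }
  · change (d⁻¹ * (d * (n.1 : D) * d⁻¹) * d) • a = a
    rw [show d⁻¹ * (d * (n.1 : D) * d⁻¹) * d = n.1 by group]
    exact n.2
  · exact (key n.1).mp n.2

theorem normal_pGroup (hodd : Odd (Nat.card D)) (hq : q.Prime) (hE : ∀ e : E, q • e = 0)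
    (htrans : PMTransitive D E) {p : ℕ} [Fact p.Prime] (N : Subgroup D) [N.Normal]
    (hN : IsPGroup p N) :
    IsCyclic N ∧ ∀ g ∈ N, g ≠ 1 → ∀ a : E, g • a = a → a = 0 := by
  by_cases hN1 : N = ⊥
  · subst hN1
    exact ⟨isCyclic_of_subsingleton, fun g hg h => absurd (Subgroup.mem_bot.mp hg) h⟩
  haveI : FaithfulSMul N E := ⟨fun h => Subtype.ext (eq_of_smul_eq_smul (α := E) fun e => h e)⟩
  have hp2 : p ≠ 2 := by
    rintro rfl
    obtain ⟨n, hn⟩ := hN.exists_card_eq
    cases n with
    | zero => exact hN1 (Subgroup.card_eq_one.mp (by simpa using hn))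
    | succ n =>
      refine Nat.not_even_iff_odd.mpr hodd (even_iff_two_dvd.mpr (dvd_trans ?_ N.card_subgroup_dvd_card))
      rw [hn]; exact dvd_pow_self 2 n.succ_ne_zero
  obtain ⟨h1, h2⟩ := CfsgLib.RankOne.ConstStab.main hp2 hN hq hE
    (fun a b ha hb => card_stabilizer_eq htrans N ha hb)
  exact ⟨h1, fun g hg hg1 a ha => h2 ⟨g, hg⟩ (fun h => hg1 (congrArg Subtype.val h)) a ha⟩

theorem fitting (hodd : Odd (Nat.card D)) (hq : q.Prime) (hE : ∀ e : E, q • e = 0)
    (htrans : PMTransitive D E) :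
    IsCyclic (fittingSubgroup D) ∧ ∀ g ∈ fittingSubgroup D, g ≠ 1 → ∀ a : E, g • a = a → a = 0 := by
  set F := fittingSubgroup D with hF
  haveI : F.Normal := CfsgLib.Solvable.Cores.fittingSubgroup_normal
  haveI : Group.IsNilpotent F := CfsgLib.Solvable.Cores.fittingSubgroup_isNilpotent
  have hsyl : ∀ (p : ℕ) [Fact p.Prime] (P : Sylow p F),
      IsCyclic ((P : Subgroup F).map F.subtype) ∧
        ∀ g ∈ (P : Subgroup F).map F.subtype, g ≠ 1 → ∀ a : E, g • a = a → a = 0 := by
    intro p hp P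
    have hPn : (P : Subgroup F).Normal := inferInstance
    haveI : (P : Subgroup F).Characteristic := P.characteristic_of_normal hPn
    haveI : ((P : Subgroup F).map F.subtype).Normal := inferInstance
    exact normal_pGroup hodd hq hE htrans _ (P.isPGroup'.map _)
  constructor
  · haveI : IsZGroup F := ⟨fun p hp P => by
      haveI := Fact.mk hp
      haveI := (hsyl p P).1
      exact isCyclic_of_injective
        ((P : Subgroup F).equivMapOfInjective F.subtype F.subtype_injective).toMonoidHom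
        (MulEquiv.injective _)⟩
    infer_instance
  · intro g hg hg1 a ha
    have hn : orderOf g ≠ 1 := fun h => hg1 (orderOf_eq_one_iff.mp h)
    set p := (orderOf g).minFac
    haveI : Fact p.Prime := ⟨Nat.minFac_prime hn⟩
    set g0 := g ^ (orderOf g / p) with hg0
    have hord : orderOf g0 = p := orderOf_pow_orderOf_div (orderOf_pos g).ne' (Nat.minFac_dvd _)
    have hg0F : g0 ∈ F := pow_mem hg _
    have hz : IsPGroup p (Subgroup.zpowers (⟨g0, hg0F⟩ : F)) :=
      IsPGroup.of_card (n := 1) (by rw [Nat.card_zpowers, Subgroup.orderOf_mk, hord, pow_one])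
    obtain ⟨P, hP⟩ := hz.exists_le_sylow
    refine (hsyl p P).2 g0 ⟨_, hP (Subgroup.mem_zpowers _), rfl⟩ ?_ a ?_
    · exact fun h => (Fact.out : p.Prime).ne_one (by rw [← hord, h, orderOf_one])
    · exact (MulAction.stabilizer D a).pow_mem ha _

omit [Finite E] [DistribMulAction D E] [FaithfulSMul D E] in
theorem commutator_le_centralizer {F : Subgroup D} [F.Normal] [IsCyclic F] :
    commutator D ≤ Subgroup.centralizer (F : Set D) := by
  rw [commutator_eq_closure, Subgroup.closure_le]
  rintro _ ⟨g, h, rfl⟩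
  refine Subgroup.mem_centralizer_iff.mpr fun x hx => ?_
  obtain ⟨m, hm⟩ := MonoidHom.map_cyclic ((MulAut.conjNormal (H := F) g).toMonoidHom)
  obtain ⟨n, hn⟩ := MonoidHom.map_cyclic ((MulAut.conjNormal (H := F) h).toMonoidHom)
  have hm' : ∀ y : F, g * (y : D) * g⁻¹ = (y : D) ^ m := fun y => by
    have := congrArg Subtype.val (hm y)
    simpa [MulAut.conjNormal_apply] using this
  have hn' : ∀ y : F, h * (y : D) * h⁻¹ = (y : D) ^ n := fun y => by
    have := congrArg Subtype.val (hn y)
    simpa [MulAut.conjNormal_apply] using this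
  have hc : ∀ y : F, g * (h * (y : D) * h⁻¹) * g⁻¹ = h * (g * (y : D) * g⁻¹) * h⁻¹ := fun y => by
    rw [hn' y, hm' y, ← conj_zpow, hm' y, ← conj_zpow, hn' y, ← zpow_mul, ← zpow_mul, mul_comm]
  set y : F := ⟨g⁻¹ * h⁻¹ * x * h * g, by
    have := ‹F.Normal›.conj_mem x hx (g⁻¹ * h⁻¹)
    simpa [mul_assoc] using this⟩
  have := hc y
  change x * ⁅g, h⁆ = ⁅g, h⁆ * x
  rw [commutatorElement_def]
  calc x * (g * h * g⁻¹ * h⁻¹) = (h * (g * (y : D) * g⁻¹) * h⁻¹) * (g * h * g⁻¹ * h⁻¹) := by
        simp [y, mul_assoc]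
    _ = (g * (h * (y : D) * h⁻¹) * g⁻¹) * (g * h * g⁻¹ * h⁻¹) := by rw [this]
    _ = _ := by simp [y, mul_assoc]

/-- The statement about the Fitting subgroup. -/
theorem main (hodd : Odd (Nat.card D)) (hsolv : Group.IsSolvable D) (hq : q.Prime)
    (hE : ∀ e : E, q • e = 0) (htrans : PMTransitive D E) :
    IsCyclic (fittingSubgroup D) ∧
      (∀ g ∈ fittingSubgroup D, g ≠ 1 → ∀ a : E, g • a = a → a = 0) ∧
      commutator D ≤ fittingSubgroup D := by
  obtain ⟨h1, h2⟩ := fitting hodd hq hE htrans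
  haveI : (fittingSubgroup D).Normal := CfsgLib.Solvable.Cores.fittingSubgroup_normal
  exact ⟨h1, h2, commutator_le_centralizer.trans CfsgLib.Solvable.Cores.centralizer_fittingSubgroup_le⟩

end CfsgLib.LocalEvenB.OddTransitive
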