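import Mathlib
import Cfsg.Agent.Lib.LocalEvenB.OddTransitive.Basic

/-!
# A solvable group of odd order transitive up to sign on a vector space is semilinear

The subring of endomorphisms generated by the Fitting subgroup is a field over which the space is
one-dimensional.
-/

set_option autoImplicit false
set_option linter.style.haveILetI false
set_option linter.unusedSectionVars false

open Cfsg
open scoped commutatorElement

namespace CfsgLib.LocalEvenB.OddTransitive

variable {D E : Type*} [Group D] [Finite D] [AddCommGroup E] [Finite E] [DistribMulAction D E]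
  [FaithfulSMul D E]

/-- The endomorphism given by a group element. -/
def act (D E : Type*) [Group D] [AddCommGroup E] [DistribMulAction D E] :
    D →* AddMonoid.End E := DistribMulAction.toAddMonoidEnd D E

theorem act_apply (d : D) (x : E) : act D E d x = d • x := rfl

theorem act_injective : Function.Injective (act D E) := fun x y h =>
  eq_of_smul_eq_smul (α := E) fun e => DFunLike.congr_fun h e

/-- The subring of endomorphisms generated by the Fitting subgroup. -/
def ring (D E : Type*) [Group D] [AddCommGroup E] [DistribMulAction D E] :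
    Subring (AddMonoid.End E) :=
  Subring.closure (act D E '' (fittingSubgroup D : Set D))

theorem act_mem_ring {f : D} (hf : f ∈ fittingSubgroup D) : act D E f ∈ ring D E :=
  Subring.subset_closure ⟨f, hf, rfl⟩

/-- Conjugation by a group element, as a ring endomorphism of the endomorphism ring. -/
def conjEnd (d : D) : AddMonoid.End E →+* AddMonoid.End E where
  toFun r := act D E d * r * act D E d⁻¹
  map_one' := by rw [mul_one, ← map_mul, mul_inv_cancel, map_one]
  map_mul' r s := by
    calc act D E d * (r * s) * act D E d⁻¹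
        = act D E d * r * 1 * s * act D E d⁻¹ := by simp [mul_assoc]
      _ = _ := by rw [← map_one (act D E), ← inv_mul_cancel d, map_mul]; simp only [mul_assoc]
  map_zero' := by simp
  map_add' r s := by simp [mul_add, add_mul]

theorem conjEnd_apply (d : D) (r : AddMonoid.End E) (x : E) :
    conjEnd d r x = d • r (d⁻¹ • x) := rfl

theorem conjEnd_mem (d : D) {r : AddMonoid.End E} (hr : r ∈ ring D E) :
    conjEnd d r ∈ ring D E := by
  haveI : (fittingSubgroup D).Normal := CfsgLib.Solvable.Cores.fittingSubgroup_normal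
  have h : (ring D E).map (conjEnd d) ≤ ring D E := by
    rw [ring, RingHom.map_closure, Subring.closure_le]
    rintro _ ⟨_, ⟨f, hf, rfl⟩, rfl⟩
    refine Subring.subset_closure ⟨d * f * d⁻¹, ‹(fittingSubgroup D).Normal›.conj_mem f hf d, ?_⟩
    change act D E (d * f * d⁻¹) = act D E d * act D E f * act D E d⁻¹
    rw [map_mul, map_mul]
  exact h ⟨r, hr, rfl⟩

theorem ring_comm (hcyc : IsCyclic (fittingSubgroup D)) :
    ∀ x ∈ act D E '' (fittingSubgroup D : Set D), ∀ y ∈ act D E '' (fittingSubgroup D : Set D),
      x * y = y * x := by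
  rintro _ ⟨f, hf, rfl⟩ _ ⟨g, hg, rfl⟩
  letI := IsCyclic.commGroup (α := fittingSubgroup D)
  rw [← map_mul, ← map_mul]
  exact congrArg _ (congrArg Subtype.val (mul_comm (⟨f, hf⟩ : fittingSubgroup D) ⟨g, hg⟩))

/-- An idempotent of the ring has as fixed space everything or nothing. -/
theorem idem_trivial (hcyc : IsCyclic (fittingSubgroup D)) (htrans : PMTransitive D E)
    {r : ring D E} (hr : r * r = r) : r = 0 ∨ r = 1 := by
  classical
  haveI : Finite (AddMonoid.End E) := Finite.of_injective _ DFunLike.coe_injective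
  have hcomm : ∀ x y : ring D E, x * y = y * x :=
    fun x y => (Subring.isMulCommutative_closure (ring_comm (E := E) hcyc)).is_comm.comm x y
  set S : Finset (ring D E) := (Set.toFinite {x : ring D E | x * x = x ∧ x ≠ 0}).toFinset
    with hS
  by_contra hcon
  push Not at hcon
  obtain ⟨P, hP, hmin⟩ := S.exists_min_image
    (fun x => Nat.card {e : E | (x : AddMonoid.End E) e = e}) ⟨r, by simp [hS, hr, hcon.1]⟩
  simp only [hS, Set.Finite.mem_toFinset, Set.mem_ofPred_eq] at hP hmin
  obtain ⟨hPP, hP0⟩ := hP
  obtain ⟨x, hx⟩ : ∃ x : E, (P : AddMonoid.End E) x ≠ 0 := by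
    by_contra h
    push Not at h
    exact hP0 (Subtype.ext (AddMonoidHom.ext h))
  set a := (P : AddMonoid.End E) x with ha
  have hPa : (P : AddMonoid.End E) a = a :=
    DFunLike.congr_fun (congrArg Subtype.val hPP) x
  by_cases hP1 : P = 1
  · subst hP1
    have h1 := hmin r ⟨hr, hcon.1⟩
    have h2 : {e : E | (r : AddMonoid.End E) e = e} = Set.univ := by
      refine Set.eq_of_subset_of_ncard_le (Set.subset_univ _) ?_ Set.finite_univ
      rw [← Nat.card_coe_set_eq, ← Nat.card_coe_set_eq]
      refine le_trans (le_of_eq ?_) h1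
      exact congrArg (fun s : Set E => Nat.card s) (Set.eq_univ_of_forall fun e => rfl).symm
    exact hcon.2 (Subtype.ext (AddMonoidHom.ext fun e => Set.eq_univ_iff_forall.mp h2 e))
  obtain ⟨c, hc, hPc⟩ : ∃ c : E, c ≠ 0 ∧ (P : AddMonoid.End E) c = 0 := by
    obtain ⟨y, hy⟩ : ∃ y : E, (P : AddMonoid.End E) y ≠ y := by
      by_contra h
      push Not at h
      exact hP1 (Subtype.ext (AddMonoidHom.ext h))
    refine ⟨y - (P : AddMonoid.End E) y, sub_ne_zero.mpr (Ne.symm hy), ?_⟩
    rw [map_sub, show (P : AddMonoid.End E) ((P : AddMonoid.End E) y) = (P : AddMonoid.End E) y from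
      DFunLike.congr_fun (congrArg Subtype.val hPP) y, sub_self]
  have hac : a + c ≠ 0 := fun h => hx (by
    have := congrArg (P : AddMonoid.End E) h
    rwa [map_add, hPa, hPc, add_zero, map_zero] at this)
  obtain ⟨d, hd⟩ := htrans a (a + c) hx hac
  set P' : ring D E := ⟨conjEnd d P, conjEnd_mem d P.2⟩ with hP'def
  have hP'P' : P' * P' = P' := Subtype.ext (by
    change conjEnd d (P : AddMonoid.End E) * conjEnd d P = conjEnd d P
    rw [← map_mul]; exact congrArg _ (congrArg Subtype.val hPP))
  have hP'ac : (P' : AddMonoid.End E) (a + c) = a + c := by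
    change d • (P : AddMonoid.End E) (d⁻¹ • (a + c)) = a + c
    rcases hd with h | h
    · rw [← h, inv_smul_smul, hPa]
    · rw [show a + c = -(d • a) by rw [h, neg_neg], ← smul_neg,
        inv_smul_smul, map_neg, hPa]
  have hP'a : (P' : AddMonoid.End E) a = a := by
    have h1 := DFunLike.congr_fun (congrArg Subtype.val (hcomm P P')) (a + c)
    change (P : AddMonoid.End E) ((P' : AddMonoid.End E) (a + c)) =
      (P' : AddMonoid.End E) ((P : AddMonoid.End E) (a + c)) at h1
    rw [hP'ac, map_add, hPa, hPc, add_zero] at h1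
    exact h1.symm
  have hP'c : (P' : AddMonoid.End E) c = c := by
    have := hP'ac
    rwa [map_add, hP'a, add_right_inj] at this
  have hprod0 : P' * P ≠ 0 := fun h => hx (by
    have := DFunLike.congr_fun (congrArg Subtype.val h) a
    change (P' : AddMonoid.End E) ((P : AddMonoid.End E) a) = 0 at this
    rwa [hPa, hP'a] at this)
  have hprod : P' * P * (P' * P) = P' * P := by
    rw [show P' * P * (P' * P) = P' * P' * (P * P) by
      rw [mul_assoc, ← mul_assoc P, hcomm P P', mul_assoc P', ← mul_assoc], hP'P', hPP]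
  have hsub : {e : E | ((P' * P : ring D E) : AddMonoid.End E) e = e} ⊆
      {e : E | (P' : AddMonoid.End E) e = e} ∩ {e : E | (P : AddMonoid.End E) e = e} := by
    intro e he
    change (P' : AddMonoid.End E) ((P : AddMonoid.End E) e) = e at he
    refine ⟨?_, ?_⟩
    · change (P' : AddMonoid.End E) e = e
      conv_lhs => rw [← he]
      exact (DFunLike.congr_fun (congrArg Subtype.val hP'P') _).trans he
    · change (P : AddMonoid.End E) e = e
      conv_lhs => rw [← he]
      refine Eq.trans ?_ he
      have h1 := DFunLike.congr_fun (congrArg Subtype.val (hcomm P P')) ((P : AddMonoid.End E) e)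
      refine h1.trans (congrArg (fun z => (P' : AddMonoid.End E) z) ?_)
      exact DFunLike.congr_fun (congrArg Subtype.val hPP) e
  have hcard : Nat.card {e : E | (P' : AddMonoid.End E) e = e} =
      Nat.card {e : E | (P : AddMonoid.End E) e = e} := by
    refine Nat.card_congr
      { toFun := fun e => ⟨d⁻¹ • (e : E), ?_⟩
        invFun := fun e => ⟨d • (e : E), ?_⟩
        left_inv := fun e => by simp
        right_inv := fun e => by simp }
    · have h1 : d • (P : AddMonoid.End E) (d⁻¹ • (e : E)) = e := e.2
      exact eq_inv_smul_iff.mpr h1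
    · change d • (P : AddMonoid.End E) (d⁻¹ • d • (e : E)) = d • (e : E)
      rw [inv_smul_smul]
      exact congrArg (d • ·) e.2
  have hle := hmin (P' * P) ⟨hprod, hprod0⟩
  rw [Nat.card_coe_set_eq, Nat.card_coe_set_eq] at hle hcard
  have h1 := Set.eq_of_subset_of_ncard_le (hsub.trans Set.inter_subset_right) hle (Set.toFinite _)
  have h2 := Set.eq_of_subset_of_ncard_le (hsub.trans Set.inter_subset_left) (hcard ▸ hle)
    (Set.toFinite _)
  have : c ∈ {e : E | (P : AddMonoid.End E) e = e} := by
    rw [← h1, h2]; exact hP'c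
  exact hc (this.symm.trans hPc)

/-- The semilinear structure. -/
theorem exists_semilinear {q : ℕ} (hodd : Odd (Nat.card D)) (hsolv : Group.IsSolvable D)
    (hq : q.Prime) (hE : ∀ e : E, q • e = 0) (htrans : PMTransitive D E) {a : E} (ha : a ≠ 0) :
    IsCyclic (MulAction.stabilizer D a) ∧ ∃ (R : Subring (AddMonoid.End E)) (hR : IsField R),
      ∃ ψ : E ≃+ R, ψ a = 1 ∧ ∀ d : D, ∃ (u : Rˣ) (σ : R ≃+* R), ∀ x, ψ (d • x) = u * σ (ψ x) := by
  classical
  obtain ⟨hcyc, hfpf, -⟩ := main hodd hsolv hq hE htrans
  haveI := Fact.mk hq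
  haveI : Finite (AddMonoid.End E) := Finite.of_injective _ DFunLike.coe_injective
  set R := ring D E with hRdef
  letI : CommRing R :=
    { (inferInstance : Ring R) with
      mul_comm := fun x y =>
        (Subring.isMulCommutative_closure (ring_comm (E := E) hcyc)).is_comm.comm x y }
  haveI : Nontrivial R := ⟨0, 1, fun h => ha (DFunLike.congr_fun (congrArg Subtype.val h) a).symm⟩
  haveI : CharP R q := by
    have h0 : ((q : ℕ) : R) = 0 := Subtype.ext (AddMonoidHom.ext fun e => by
      change ((q : R) : AddMonoid.End E) e = 0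
      rw [SubringClass.coe_natCast, AddMonoid.End.natCast_apply]
      exact hE e)
    exact (CharP.charP_iff_prime_eq_zero hq).mpr h0
  haveI : ExpChar R q := ExpChar.prime hq
  set F := fittingSubgroup D
  let ι : F →* R :=
    { toFun := fun f => ⟨act D E f, act_mem_ring f.2⟩
      map_one' := Subtype.ext (map_one _)
      map_mul' := fun f g => Subtype.ext (map_mul _ _ _) }
  have hι : Function.Injective ι := fun f g h => Subtype.ext (act_injective (congrArg Subtype.val h))
  -- the order of the Fitting subgroup is prime to `q`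
  have hcop : q.Coprime (Nat.card F) := by
    rw [hq.coprime_iff_not_dvd]
    intro hdvd
    obtain ⟨f, hf⟩ := exists_prime_orderOf_dvd_card' q hdvd
    have hf1 : f ≠ 1 := fun h => hq.ne_one (by rw [← hf, h, orderOf_one])
    have hnil : (ι f - 1) ^ q = 0 := by
      rw [sub_pow_char, ← map_pow, ← hf, pow_orderOf_eq_one, map_one, one_pow, sub_self]
    obtain ⟨x, hx0, hx⟩ : ∃ x : E, x ≠ 0 ∧ (ι f - 1 : R).1 x = 0 := by
      by_contra h
      push Not at h
      have hinj : ∀ k : ℕ, ((ι f - 1) ^ k : R).1 a ≠ 0 := fun k => by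
        induction k with
        | zero => rw [pow_zero]; exact ha
        | succ k ih => rw [pow_succ']; exact h _ ih
      exact hinj q (by rw [hnil]; rfl)
    refine hx0 (hfpf f f.2 (fun h => hf1 (Subtype.ext h)) x ?_)
    change (f : D) • x - x = 0 at hx
    exact sub_eq_zero.mp hx
  -- hence all elements are fixed by a power of Frobenius
  set N := (Nat.card F).totient with hN
  have hN0 : 0 < N := Nat.totient_pos.mpr Nat.card_pos
  have hfix : ∀ r : R, r ^ q ^ N = r := by
    intro r
    have hgen : Subring.closure (Set.range ι) = ⊤ := by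
      refine eq_top_iff.mpr fun x _ => ?_
      have hx : (x : AddMonoid.End E) ∈ (Subring.closure (Set.range ι)).map R.subtype := by
        rw [RingHom.map_closure]
        refine Subring.closure_mono ?_ x.2
        rintro _ ⟨f, hf, rfl⟩
        exact ⟨ι ⟨f, hf⟩, ⟨_, rfl⟩, rfl⟩
      obtain ⟨y, hy, hyx⟩ := hx
      rwa [← Subtype.ext hyx]
    have h := RingHom.eqOn_set_closure (f := iterateFrobenius R q N) (g := RingHom.id R)
      (s := Set.range ι) ?_ (hgen ▸ Subring.mem_top r)
    · simpa [iterateFrobenius_def] using h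
    · rintro _ ⟨f, rfl⟩
      rw [iterateFrobenius_def, RingHom.id_apply, ← map_pow]
      congr 1
      have h1 : q ^ N ≡ 1 [MOD Nat.card F] := Nat.ModEq.pow_totient hcop
      conv_rhs => rw [← pow_one f]
      exact pow_eq_pow_iff_modEq.mpr (h1.of_dvd (orderOf_dvd_natCard f))
  have hF : IsField R := by
    refine ⟨⟨0, 1, zero_ne_one⟩, mul_comm, fun {r} hr => ?_⟩
    set M := q ^ N with hM
    have hM2 : 2 ≤ M := le_trans hq.two_le (Nat.le_self_pow hN0.ne' q)
    have he : r * r ^ (M - 1) = r := by rw [← pow_succ', show M - 1 + 1 = M by omega, hfix]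
    have hidem : r ^ (M - 1) * r ^ (M - 1) = r ^ (M - 1) := by
      obtain ⟨k, hk⟩ : ∃ k, M - 1 = k + 1 := ⟨M - 2, by omega⟩
      rw [hk] at he ⊢
      rw [pow_succ r k]
      calc r ^ k * r * (r ^ k * r) = r ^ k * (r * r ^ (k + 1)) := by ring
        _ = r ^ k * r := by rw [he]
    rcases idem_trivial hcyc htrans hidem with h | h
    · rw [h, mul_zero] at he; exact absurd he.symm hr
    · refine ⟨r ^ (M - 2), ?_⟩
      rw [← pow_succ', show M - 2 + 1 = M - 1 by omega]; exact h
  letI : Field R := hF.toField
  letI : Algebra (ZMod q) R := ZMod.algebra R q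
  -- the action of `D` on the field
  let φ : D →* (R ≃ₐ[ZMod q] R) :=
    MonoidHom.mk'
      (fun d => AlgEquiv.ofRingEquiv (f :=
        { toFun := fun r => ⟨conjEnd d r, conjEnd_mem d r.2⟩
          invFun := fun r => ⟨conjEnd d⁻¹ r, conjEnd_mem d⁻¹ r.2⟩
          left_inv := fun r => Subtype.ext (AddMonoidHom.ext fun x => by
            change d⁻¹ • d • r.1 (d⁻¹ • d⁻¹⁻¹ • x) = r.1 x
            simp)
          right_inv := fun r => Subtype.ext (AddMonoidHom.ext fun x => by
            change d • d⁻¹ • r.1 (d⁻¹⁻¹ • d⁻¹ • x) = r.1 x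
            simp)
          map_mul' := fun r s => Subtype.ext (map_mul (conjEnd d) r.1 s.1)
          map_add' := fun r s => Subtype.ext (map_add (conjEnd d) r.1 s.1) })
        (by
          intro c
          rw [← ZMod.natCast_zmod_val c, map_natCast, map_natCast]))
      (fun d d' => AlgEquiv.ext fun r => Subtype.ext (AddMonoidHom.ext fun x => by
        change (d * d') • r.1 ((d * d')⁻¹ • x) = d • d' • r.1 (d'⁻¹ • d⁻¹ • x)
        rw [mul_smul, mul_inv_rev, mul_smul]))
  have hφ : ∀ (d : D) (r : R) (x : E), d • r.1 x = (φ d r).1 (d • x) := fun d r x => by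
    change d • r.1 x = d • r.1 (d⁻¹ • d • x)
    rw [inv_smul_smul]
  haveI : (F : Subgroup D).Normal := CfsgLib.Solvable.Cores.fittingSubgroup_normal
  have hker : φ.ker ≤ F := by
    intro d hd
    refine CfsgLib.Solvable.Cores.centralizer_fittingSubgroup_le (G := D) ?_
    refine Subgroup.mem_centralizer_iff.mpr fun f hf => eq_of_smul_eq_smul (α := E) fun x => ?_
    rw [mul_smul, mul_smul]
    have h1 := hφ d (ι ⟨f, hf⟩) x
    rw [show φ d = 1 from hd] at h1
    exact h1.symm
  haveI : Finite (R ≃ₐ[ZMod q] R) :=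
    Finite.of_injective (fun e => (e : R → R)) DFunLike.coe_injective
  have hstab : IsCyclic (MulAction.stabilizer D a) := by
    refine isCyclic_of_injective (φ.comp (MulAction.stabilizer D a).subtype)
      ((injective_iff_map_eq_one _).mpr fun d hd => ?_)
    by_contra hd1
    exact ha (hfpf d (hker hd) (fun h => hd1 (Subtype.ext h)) a d.2)
  refine ⟨hstab, R, hF, ?_⟩
  -- the dimension is one
  set m := Module.finrank (ZMod q) R with hm
  have hRcard : q ^ m = Nat.card R := FiniteField.pow_finrank_eq_natCard q R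
  have hm0 : 0 < m := Module.finrank_pos
  have hAut : Nat.card (R ≃ₐ[ZMod q] R) ≤ m := by
    rw [IsGalois.card_aut_eq_finrank (ZMod q) R]
  have hFc : Nat.card F + 1 ≤ Nat.card R := by
    have h0 : Function.Injective (fun o : Option F => o.elim (0 : R) ι) := by
      have hne : ∀ f : F, ι f ≠ 0 := fun f h => ha (by
        have := DFunLike.congr_fun (congrArg Subtype.val h) a
        exact smul_eq_zero_iff_eq _ |>.mp this)
      rintro (_ | f) (_ | g) h
      · rfl
      · exact absurd h.symm (hne g)
      · exact absurd h (hne f)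
      · exact congrArg some (hι h)
    simpa using Nat.card_le_card_of_injective _ h0
  have hDc : Nat.card D ≤ Nat.card F * m := by
    rw [← φ.ker.card_mul_index, Subgroup.index_ker]
    exact Nat.mul_le_mul (Subgroup.card_le_of_le hker)
      ((Nat.card_le_card_of_injective _ Subtype.val_injective).trans hAut)
  have hEc : Nat.card E ≤ 2 * Nat.card D + 1 := by
    have hs : Function.Surjective
        (fun o : Option (D × Bool) => o.elim (0 : E) fun p => bif p.2 then p.1 • a else -(p.1 • a)) := by
      intro x
      by_cases hx : x = 0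
      · exact ⟨none, hx.symm⟩
      obtain ⟨d, h | h⟩ := htrans a x ha hx
      · exact ⟨some (d, true), h⟩
      · exact ⟨some (d, false), by simp [h]⟩
    simpa [mul_comm] using Nat.card_le_card_of_surjective _ hs
  let ev : R →+ E :=
    { toFun := fun r => r.1 a, map_zero' := rfl, map_add' := fun _ _ => rfl }
  have hmul : ∀ r s : R, (r * s).1 a = r.1 (s.1 a) := fun _ _ => rfl
  have hev : Function.Injective ev := (injective_iff_map_eq_zero _).mpr fun r hr => by
    by_contra hr0
    apply ha
    have : (r⁻¹ * r).1 a = 0 := by rw [hmul, show r.1 a = 0 from hr, map_zero]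
    rwa [inv_mul_cancel₀ hr0] at this
  have hsurj : Function.Surjective ev := by
    intro b
    by_contra hb
    have hne : ∀ r : R, r.1 a ≠ b := fun r h => hb ⟨r, h⟩
    have h2 : Function.Injective (fun p : R × R => p.1.1 a + p.2.1 b) := by
      rintro ⟨r, s⟩ ⟨r', s'⟩ h
      change r.1 a + s.1 b = r'.1 a + s'.1 b at h
      have h3 : (r - r').1 a + (s - s').1 b = 0 := by
        change r.1 a - r'.1 a + (s.1 b - s'.1 b) = 0
        rw [← add_sub_add_comm, h, sub_self]
      by_cases hs : s - s' = 0
      · rw [hs] at h3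
        have h4 : ev (r - r') = 0 := (add_zero _).symm.trans h3
        rw [sub_eq_zero.mp hs, sub_eq_zero.mp ((injective_iff_map_eq_zero _).mp hev _ h4)]
      · exfalso
        apply hne (-((s - s')⁻¹ * (r - r')))
        have h5 := congrArg ((s - s')⁻¹ : R).1 h3
        rw [map_add, map_zero, ← hmul] at h5
        have h6 : ((s - s')⁻¹ : R).1 ((s - s').1 b) = b := by
          change (((s - s')⁻¹ * (s - s') : R)).1 b = b
          rw [inv_mul_cancel₀ hs]; rfl
        rw [h6] at h5
        change -((((s - s')⁻¹ * (r - r') : R)).1 a) = b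
        exact (eq_neg_of_add_eq_zero_right h5).symm
    have h4 := Nat.card_le_card_of_injective _ h2
    rw [Nat.card_prod, ← hRcard] at h4
    rw [← hRcard] at hFc
    have hm2 : 2 * m ≤ q ^ m := by
      refine le_trans ?_ (Nat.pow_le_pow_left hq.two_le m)
      obtain ⟨k, hk⟩ : ∃ k, m = 1 + k := ⟨m - 1, by omega⟩
      rw [hk]
      have := k.lt_two_pow_self
      rw [pow_add, pow_one]; omega
    nlinarith [hFc, hDc, hEc, h4, hm2, Nat.card_pos (α := F)]
  let ψ : E ≃+ R := (AddEquiv.ofBijective ev ⟨hev, hsurj⟩).symm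
  have hψ : ∀ r : R, ψ (r.1 a) = r := fun r => (AddEquiv.ofBijective ev ⟨hev, hsurj⟩).symm_apply_apply r
  refine ⟨ψ, hψ 1, fun d => ?_⟩
  have hu : ψ (d • a) ≠ 0 := (AddEquiv.map_ne_zero_iff ψ).mpr ((smul_ne_zero_iff_ne _).mpr ha)
  refine ⟨Units.mk0 _ hu, (φ d).toRingEquiv, fun x => ?_⟩
  obtain ⟨r, rfl⟩ := hsurj x
  change ψ (d • r.1 a) = ψ (d • a) * φ d (ψ (r.1 a))
  rw [hψ, hφ, mul_comm]
  conv_lhs => rw [show d • a = (ψ (d • a)).1 a from
    ((AddEquiv.ofBijective ev ⟨hev, hsurj⟩).apply_symm_apply _).symm]
  exact hψ (φ d r * ψ (d • a))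

end CfsgLib.LocalEvenB.OddTransitive
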