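import Mathlib
import Cfsg.Agent.Lib.RankOne.Four
import Cfsg.Agent.Lib.LocalEvenB.OddTransitive.Semilinear
import Cfsg.Agent.S1127
import Cfsg.Agent.S1128

/-!
# The rank-one set-up: the inverted elements form a cyclic normal subgroup

All results assume that the two-point stabiliser is solvable.
-/

set_option autoImplicit false
set_option linter.style.haveILetI false
set_option linter.unusedSectionVars false

open Cfsg
open MulAction
open CfsgLib.RankOne

namespace CfsgLib.LocalEvenB.OddTransitive.RankOneCase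

universe u w

variable {G : Type u} {Ω : Type w} [Group G] [Finite G] [MulAction G Ω] [FaithfulSMul G Ω] {a : Ω} {t : G}
  {Q : Subgroup G} (hS : IsRankOneSetup G Ω a t Q)
  (h2 : ∃ x y : G, x ≠ 1 ∧ y ≠ 1 ∧ x ≠ y ∧ x * x = 1 ∧ y * y = 1 ∧ x * y = y * x)

theorem inv_zpow_mem {k : G} (hk : k ∈ invertedBy (two G a t) t) (n : ℤ) :
    k ^ n ∈ invertedBy (two G a t) t :=
  ⟨zpow_mem hk.1 n, by rw [← conj_zpow, hk.2, inv_zpow]⟩

/-- Conjugation by an element centralising `t`. -/
theorem conj_inverted {v k : G} (hv : v ∈ two G a t) (hvt : v * t = t * v)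
    (hk : k ∈ invertedBy (two G a t) t) : v * k * v⁻¹ ∈ invertedBy (two G a t) t :=
  ⟨mul_mem (mul_mem hv hk.1) (inv_mem hv), by
    calc t * (v * k * v⁻¹) * t⁻¹ = (t * v) * k * (t * v)⁻¹ := by group
      _ = v * (t * k * t⁻¹) * v⁻¹ := by rw [← hvt]; group
      _ = _ := by rw [hk.2]; group⟩

/-- The elementary abelian group formed by the involutions of the point stabiliser and one. -/
def invGroup : Subgroup G where
  carrier := {s | s ∈ stabilizer G a ∧ s * s = 1}
  one_mem' := ⟨one_mem _, one_mul 1⟩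
  inv_mem' := fun {s} hs => ⟨inv_mem hs.1, by rw [inv_eq_of_mul_eq_one_right hs.2]; exact hs.2⟩
  mul_mem' := fun {s u} hs hu => by
    refine ⟨mul_mem hs.1 hu.1, ?_⟩
    by_cases hs1 : s = 1
    · rw [hs1, one_mul]; exact hu.2
    have hc := (central_invol hS h2 (s := s) ⟨hs.1, hs1, hs.2⟩).2 u (odd_mem_q hS hu.1 hu.2)
    rw [mul_assoc, ← mul_assoc u, ← hc, mul_assoc s u, hu.2, mul_one, hs.2]

/-- The group of the module. -/
abbrev Mod : Type u := Additive (invGroup hS h2)

noncomputable instance : CommGroup (invGroup hS h2) :=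
  { (inferInstance : Group (invGroup hS h2)) with
    mul_comm := fun x y => Subtype.ext (by
      by_cases hx : (x : G) = 1
      · simp [hx]
      · exact (central_invol hS h2 (s := (x : G)) ⟨x.2.1, hx, x.2.2⟩).2 y (odd_mem_q hS y.2.1 y.2.2)) }

theorem conj_mem_invGroup {d s : G} (hd : d ∈ two G a t) (hs : s ∈ invGroup hS h2) :
    d * s * d⁻¹ ∈ invGroup hS h2 := by
  refine ⟨mul_mem (mul_mem hd.1 hs.1) (inv_mem hd.1), ?_⟩
  calc d * s * d⁻¹ * (d * s * d⁻¹) = d * (s * s) * d⁻¹ := by group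
    _ = 1 := by rw [hs.2]; group

/-- Conjugation of the two point stabiliser on the involutions. -/
noncomputable def conjHom : two G a t →* MulAut (invGroup hS h2) :=
  MonoidHom.mk' (fun d : two G a t =>
    { toFun := fun s => ⟨d * (s : G) * (d : G)⁻¹, conj_mem_invGroup hS h2 d.2 s.2⟩
      invFun := fun s => ⟨(d : G)⁻¹ * (s : G) * (d : G)⁻¹⁻¹, conj_mem_invGroup hS h2 (inv_mem d.2) s.2⟩
      left_inv := fun s => Subtype.ext
        (show (d : G)⁻¹ * ((d : G) * (s : G) * (d : G)⁻¹) * (d : G)⁻¹⁻¹ = _ by group)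
      right_inv := fun s => Subtype.ext
        (show (d : G) * ((d : G)⁻¹ * (s : G) * (d : G)⁻¹⁻¹) * (d : G)⁻¹ = _ by group)
      map_mul' := fun s u => Subtype.ext
        (show (d : G) * ((s : G) * u) * (d : G)⁻¹ =
          (d : G) * (s : G) * (d : G)⁻¹ * ((d : G) * (u : G) * (d : G)⁻¹) by group) })
    (fun d e => MulEquiv.ext fun s => Subtype.ext
      (show (d : G) * e * (s : G) * ((d : G) * e)⁻¹ =
        (d : G) * ((e : G) * (s : G) * (e : G)⁻¹) * (d : G)⁻¹ by group))

theorem conjHom_apply (d : two G a t) (s : invGroup hS h2) :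
    ((conjHom hS h2 d s : invGroup hS h2) : G) = d * (s : G) * (d : G)⁻¹ := rfl

/-- The effective group. -/
noncomputable abbrev Eff : Subgroup (MulAut (invGroup hS h2)) := (conjHom hS h2).range

noncomputable instance : DistribMulAction (Eff hS h2) (Mod hS h2) where
  smul x s := Additive.ofMul ((x : MulAut (invGroup hS h2)) s.toMul)
  one_smul _ := rfl
  mul_smul _ _ _ := rfl
  smul_zero x := congrArg Additive.ofMul (map_one (x : MulAut (invGroup hS h2)))
  smul_add x s u := congrArg Additive.ofMul (map_mul (x : MulAut (invGroup hS h2)) s.toMul u.toMul)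

noncomputable instance : FaithfulSMul (Eff hS h2) (Mod hS h2) :=
  ⟨fun h => Subtype.ext (MulEquiv.ext fun x => congrArg Additive.toMul (h (Additive.ofMul x)))⟩

include hS h2

theorem eff_odd : Odd (Nat.card (Eff hS h2)) :=
  Odd.of_dvd_nat hS.odd_card (Subgroup.card_range_dvd _)

theorem eff_solvable (hsolv : Group.IsSolvable (two G a t)) : Group.IsSolvable (Eff hS h2) :=
  Group.isSolvable_of_surjective (f := (conjHom hS h2).rangeRestrict) (MonoidHom.rangeRestrict_surjective _)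

theorem mod_two (s : Mod hS h2) : 2 • s = 0 := by
  rw [two_nsmul]
  exact congrArg Additive.ofMul (Subtype.ext s.toMul.2.2)

theorem eff_trans (x y : Mod hS h2) (hx : x ≠ 0) (hy : y ≠ 0) :
    ∃ d : Eff hS h2, d • x = y := by
  have hmem : ∀ z : Mod hS h2, z ≠ 0 → (z.toMul : G) ∈ involutionsIn (stabilizer G a : Set G) :=
    fun z hz => ⟨z.toMul.2.1, fun h => hz (congrArg Additive.ofMul (Subtype.ext h)), z.toMul.2.2⟩
  obtain ⟨k, hk, he⟩ := exists_conj_inverted hS (hmem x hx) (hmem y hy)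
  refine ⟨⟨_, ⟨(⟨k, hk.1⟩ : two G a t)⁻¹, rfl⟩⟩, congrArg Additive.ofMul (Subtype.ext ?_)⟩
  change k⁻¹ * (x.toMul : G) * k⁻¹⁻¹ = y.toMul
  rw [inv_inv]; exact he

theorem nontrivial_mod : Nontrivial (Mod hS h2) := by
  obtain ⟨s, -, hs, -, -⟩ := exists_two_invol hS h2
  exact ⟨⟨0, Additive.ofMul ⟨s, hs.1, hs.2.2⟩, fun h =>
    hs.2.1 (congrArg (fun z : Mod hS h2 => (z.toMul : G)) h).symm⟩⟩

/-- The kernel of conjugation. -/
theorem ker_iff (d : two G a t) : conjHom hS h2 d = 1 ↔ (d : G) ∈ two G a t ⊓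
    Subgroup.centralizer {t} ⊓ Subgroup.centralizer (invertedBy (two G a t) t) := by
  have e : two G a t ⊓ Subgroup.centralizer {t} ⊓ Subgroup.centralizer (invertedBy (two G a t) t) =
      two G a t ⊓ Subgroup.centralizer (involutionsIn (stabilizer G a : Set G)) :=
    (Cfsg.Agent.S1127.result hS).2
  rw [e]
  refine ⟨fun h => ⟨d.2, Subgroup.mem_centralizer_iff.mpr fun s hs => ?_⟩, fun h => ?_⟩
  · have := congrArg (fun f : MulAut (invGroup hS h2) => (f ⟨s, hs.1, hs.2.2⟩).1) h
    change (d : G) * s * (d : G)⁻¹ = s at this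
    exact (mul_inv_eq_iff_eq_mul.mp this).symm
  · refine MulEquiv.ext fun x => Subtype.ext ?_
    change (d : G) * (x : G) * (d : G)⁻¹ = x
    by_cases hx : (x : G) = 1
    · rw [hx]; group
    · rw [← Subgroup.mem_centralizer_iff.mp h.2 _ ⟨x.2.1, hx, x.2.2⟩]; group

/-- The inverted elements form a cyclic subgroup. -/
theorem exists_gen (hsolv : Group.IsSolvable (two G a t)) :
    ∃ k₀ ∈ invertedBy (two G a t) t,
      invertedBy (two G a t) t = (Subgroup.zpowers k₀ : Set G) := by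
  classical
  haveI := nontrivial_mod hS h2
  haveI : Finite (Mod hS h2) := inferInstanceAs (Finite (invGroup hS h2))
  haveI : Finite (Eff hS h2) := Finite.of_surjective _ (MonoidHom.rangeRestrict_surjective (conjHom hS h2))
  haveI := eff_solvable hS h2 hsolv
  obtain ⟨hcyc, hfpf, -⟩ := main (eff_odd hS h2) (eff_solvable hS h2 hsolv) Nat.prime_two
    (mod_two hS h2) (PMTransitive.of_transitive (eff_trans hS h2))
  set F := fittingSubgroup (Eff hS h2) with hF
  set π := (conjHom hS h2).rangeRestrict with hπ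
  have hπs : Function.Surjective π := MonoidHom.rangeRestrict_surjective _
  have hcard := eff_odd hS h2
  -- the fixed vector of the centraliser of `t`
  obtain ⟨⟨s, r⟩, ⟨hs, hr, he⟩, -⟩ := structure_pair hS
  set e0 : Mod hS h2 := Additive.ofMul ⟨s, hs.1, hs.2.2⟩ with he0
  have he00 : e0 ≠ 0 := fun h => hs.2.1 (congrArg (fun z : Mod hS h2 => (z.toMul : G)) h)
  have hVfix : ∀ v : two G a t, (v : G) * t = t * v → π v • e0 = e0 := by
    intro v hv
    have h1 : (v : G) ∈ two G a t ⊓ Subgroup.centralizer {t} :=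
      ⟨v.2, Subgroup.mem_centralizer_singleton_iff.mpr hv⟩
    rw [(Cfsg.Agent.S1127.result hS).1 s r hs hr he] at h1
    have h3 := Subgroup.mem_centralizer_singleton_iff.mp h1.2
    refine congrArg Additive.ofMul (Subtype.ext ?_)
    change (v : G) * s * (v : G)⁻¹ = s
    rw [h3]; group
  have hVF : ∀ v : two G a t, (v : G) * t = t * v → π v ∈ F → π v = 1 := fun v hv hF' => by
    by_contra h
    exact he00 (hfpf _ hF' h e0 (hVfix v hv))
  -- conjugation by `t`
  let θ : two G a t →* two G a t := MonoidHom.mk' (fun d => ⟨t * d * t⁻¹, conj_t_mem hS d.2⟩)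
    (fun d e => Subtype.ext (show t * ((d : G) * e) * t⁻¹ = t * d * t⁻¹ * (t * e * t⁻¹) by group))
  have hker : π.ker ≤ (π.comp θ).ker := by
    intro d hd
    have hd' : conjHom hS h2 d = 1 := congrArg Subtype.val (hd : π d = 1)
    have h1 := (ker_iff hS h2 d).mp hd'
    have h3 : θ d = d := Subtype.ext (show t * (d : G) * t⁻¹ = d by
      rw [← Subgroup.mem_centralizer_singleton_iff.mp h1.1.2]; group)
    change π (θ d) = 1
    rw [h3]; exact hd
  let θb : Eff hS h2 →* Eff hS h2 := π.liftOfSurjective hπs ⟨π.comp θ, hker⟩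
  have hθb : ∀ d, θb (π d) = π (θ d) := fun d =>
    MonoidHom.liftOfRightInverse_comp_apply _ _ _ _ d
  have hθbs : Function.Surjective θb := fun y => by
    obtain ⟨d, rfl⟩ := hπs y
    refine ⟨π (θ d), ?_⟩
    rw [hθb]; congr 1
    exact Subtype.ext (show t * (t * (d : G) * t⁻¹) * t⁻¹ = d by
      rw [t_inv hS]
      calc t * (t * (d : G) * t) * t = (t * t) * d * (t * t) := by group
        _ = d := by rw [hS.mul_self]; group)
  have hθbi : Function.Injective θb := Finite.injective_iff_surjective.mpr hθbs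
  haveI : (F : Subgroup (Eff hS h2)).Normal := CfsgLib.Solvable.Cores.fittingSubgroup_normal
  haveI : Group.IsNilpotent F := CfsgLib.Solvable.Cores.fittingSubgroup_isNilpotent
  have hθF : ∀ f ∈ F, θb f ∈ F := fun f hf => by
    haveI : (F.map θb).Normal := Subgroup.Normal.map inferInstance θb hθbs
    exact CfsgLib.Solvable.Cores.le_fittingSubgroup (N := F.map θb)
      (Group.nilpotent_of_mulEquiv (F.equivMapOfInjective θb hθbi)) ⟨f, hf, rfl⟩
  have hsq : ∀ x : Eff hS h2, x * x = 1 → x = 1 := fun x hx =>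
    sq_inj_of_odd hcard pow_card_eq_one' (one_pow _) (by rw [hx, one_mul])
  have hodd' := hS.odd_card
  have hsplit := fun (d : G) (hd : d ∈ two G a t) =>
    split_odd (M := G) hS.mul_self hodd' (fun x hx => conj_t_mem hS hx) hd
  have hθK : ∀ k : two G a t, (k : G) ∈ invertedBy (two G a t) t → θb (π k) = (π k)⁻¹ := by
    intro k hk
    rw [hθb, ← map_inv]
    congr 1
    exact Subtype.ext hk.2
  have hθV : ∀ v : two G a t, (v : G) * t = t * v → θb (π v) = π v := by
    intro v hv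
    rw [hθb]; congr 1
    exact Subtype.ext (show t * (v : G) * t⁻¹ = v by rw [← hv]; group)
  -- split an element of the two point stabiliser
  have hdec : ∀ d : two G a t, ∃ v k : two G a t, (v : G) * t = t * v ∧
      (k : G) ∈ invertedBy (two G a t) t ∧ d = v * k := by
    intro d
    obtain ⟨⟨v, k⟩, ⟨hv, hk, he'⟩, -⟩ := hsplit d d.2
    exact ⟨⟨v, hv.1⟩, ⟨k, hk.1⟩, Subgroup.mem_centralizer_singleton_iff.mp hv.2, hk, Subtype.ext he'⟩
  have hfixed : ∀ f ∈ F, θb f = f → f = 1 := by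
    intro f hf hθ
    obtain ⟨d, rfl⟩ := hπs f
    obtain ⟨v, k, hv, hk, rfl⟩ := hdec d
    rw [map_mul, map_mul, hθV v hv, hθK k hk, mul_left_cancel_iff] at hθ
    have hk1 : π k = 1 := hsq _ (by conv_lhs => arg 1; rw [← hθ]
                                    exact inv_mul_cancel _)
    rw [map_mul, hk1, mul_one] at hf ⊢
    exact hVF v hv hf
  have hcomm : ∀ f ∈ F, ∀ g ∈ F, f * g = g * f := fun f hf g hg => by
    letI := IsCyclic.commGroup (α := F)
    exact congrArg Subtype.val (mul_comm (⟨f, hf⟩ : F) ⟨g, hg⟩)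
  have hinvol : ∀ x, θb (θb x) = x := fun x => by
    obtain ⟨d, rfl⟩ := hπs x
    rw [hθb, hθb]; congr 1
    exact Subtype.ext (show t * (t * (d : G) * t⁻¹) * t⁻¹ = d by
      rw [t_inv hS]
      calc t * (t * (d : G) * t) * t = (t * t) * d * (t * t) := by group
        _ = d := by rw [hS.mul_self]; group)
  have hinv : ∀ f ∈ F, θb f = f⁻¹ := fun f hf => by
    have h1 := hfixed (f * θb f) (mul_mem hf (hθF f hf)) (by
      rw [map_mul, hinvol]; exact hcomm _ (hθF f hf) _ hf)
    exact eq_inv_of_mul_eq_one_right h1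
  have hKF : ∀ k : two G a t, (k : G) ∈ invertedBy (two G a t) t → π k ∈ F := by
    intro k hk
    have hk2 : π k * π k ∈ F := by
      refine CfsgLib.Solvable.Cores.centralizer_fittingSubgroup_le (G := Eff hS h2)
        (Subgroup.mem_centralizer_iff.mpr fun f hf => ?_)
      have h1 := hinv _ (‹(F : Subgroup (Eff hS h2)).Normal›.conj_mem f hf (π k))
      rw [map_mul, map_mul, map_inv, hθK k hk, hinv f hf] at h1
      have h3 : (π k)⁻¹ * f⁻¹ * π k = π k * f⁻¹ * (π k)⁻¹ := by
        calc (π k)⁻¹ * f⁻¹ * π k = (π k)⁻¹ * f⁻¹ * (π k)⁻¹⁻¹ := by group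
          _ = (π k * f * (π k)⁻¹)⁻¹ := h1
          _ = _ := by group
      have h4 : f⁻¹ * (π k * π k) = π k * π k * f⁻¹ := by
        calc f⁻¹ * (π k * π k) = π k * ((π k)⁻¹ * f⁻¹ * π k) * π k := by group
          _ = π k * (π k * f⁻¹ * (π k)⁻¹) * π k := by rw [h3]
          _ = _ := by group
      calc f * (π k * π k) = f * (π k * π k * f⁻¹) * f := by group
        _ = f * (f⁻¹ * (π k * π k)) * f := by rw [h4]
        _ = _ := by group
    obtain ⟨m, hm⟩ := hcard
    have h5 : π k = (π k * π k) ^ (m + 1) := by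
      rw [← pow_two, ← pow_mul, show 2 * (m + 1) = 2 * m + 1 + 1 by ring, pow_succ, ← hm,
        pow_card_eq_one', one_mul]
    rw [h5]; exact pow_mem hk2 _
  obtain ⟨f0, hf0⟩ := hcyc.exists_generator
  obtain ⟨d0, hd0⟩ := hπs (f0 : Eff hS h2)
  obtain ⟨v0, k0, hv0, hk0, rfl⟩ := hdec d0
  have hv01 : π v0 = 1 := hVF v0 hv0 (by
    have : π v0 = (f0 : Eff hS h2) * (π k0)⁻¹ := by rw [← hd0, map_mul, mul_inv_cancel_right]
    rw [this]; exact mul_mem f0.2 (inv_mem (hKF k0 hk0)))
  rw [map_mul, hv01, one_mul] at hd0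
  refine ⟨k0, hk0, Set.eq_of_subset_of_subset (fun k hk => ?_) ?_⟩
  · obtain ⟨n, hn⟩ := Subgroup.mem_zpowers_iff.mp (hf0 ⟨π ⟨k, hk.1⟩, hKF ⟨k, hk.1⟩ hk⟩)
    have hn' : π ⟨k, hk.1⟩ = π (k0 ^ n) := by
      rw [map_zpow, hd0]; exact (congrArg Subtype.val hn).symm
    have hw : conjHom hS h2 (⟨k, hk.1⟩ * (k0 ^ n)⁻¹) = 1 := by
      have : π (⟨k, hk.1⟩ * (k0 ^ n)⁻¹) = 1 := by rw [map_mul, map_inv, hn', mul_inv_cancel]
      exact congrArg Subtype.val this
    have hw' := ((ker_iff hS h2 _).mp hw).1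
    obtain ⟨p, -, hu⟩ := hsplit k hk.1
    have e1 := hu (1, k) ⟨one_mem _, hk, (one_mul k).symm⟩
    have e2 := hu (k * ((k0 : G) ^ n)⁻¹, (k0 : G) ^ n)
      ⟨by simpa using hw', inv_zpow_mem hk0 n, by group⟩
    exact Subgroup.mem_zpowers_iff.mpr ⟨n, (congrArg Prod.snd (e1.trans e2.symm)).symm⟩
  · rintro _ ⟨n, rfl⟩
    exact inv_zpow_mem hk0 n

include hS h2

theorem inverted_cyclic_normal (hsolv : Group.IsSolvable (two G a t)) :
    ∃ C : Subgroup G, (C : Set G) = invertedBy (two G a t) t ∧ IsCyclic C ∧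
      ∀ d ∈ two G a t, ∀ c ∈ C, d * c * d⁻¹ ∈ C := by
  obtain ⟨k0, hk0, hK⟩ := exists_gen hS h2 hsolv
  refine ⟨Subgroup.zpowers k0, hK.symm, inferInstance, fun d hd c hc => ?_⟩
  obtain ⟨⟨v, k⟩, ⟨hv, hk, he⟩, -⟩ :=
    split_odd hS.mul_self hS.odd_card (fun x hx => conj_t_mem hS hx) hd
  subst he
  have hkk : k ∈ Subgroup.zpowers k0 := by
    have := hk; rw [hK] at this; exact this
  have hcc : k * c * k⁻¹ = c := by
    obtain ⟨i, rfl⟩ := Subgroup.mem_zpowers_iff.mp hkk
    obtain ⟨j, rfl⟩ := Subgroup.mem_zpowers_iff.mp hc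
    rw [← zpow_add, ← zpow_neg, ← zpow_add, add_comm i j, add_neg_cancel_right]
  have hcK : c ∈ invertedBy (two G a t) t := by rw [hK]; exact hc
  have h1 := conj_inverted hv.1 (Subgroup.mem_centralizer_singleton_iff.mp hv.2) hcK
  rw [hK] at h1
  change (v * k) * c * (v * k)⁻¹ ∈ Subgroup.zpowers k0
  rw [show v * k * c * (v * k)⁻¹ = v * (k * c * k⁻¹) * v⁻¹ by group, hcc]
  exact h1

set_option maxHeartbeats 400000 in
theorem v_mod_w_cyclic (hsolv : Group.IsSolvable (two G a t)) :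
    ∃ v ∈ two G a t ⊓ Subgroup.centralizer {t},
      (two G a t ⊓ Subgroup.centralizer {t} ⊓ Subgroup.centralizer (invertedBy (two G a t) t)) ⊔
        Subgroup.closure {v} = two G a t ⊓ Subgroup.centralizer {t} := by
  haveI := nontrivial_mod hS h2
  haveI : Finite (Mod hS h2) := inferInstanceAs (Finite (invGroup hS h2))
  haveI : Finite (Eff hS h2) := Finite.of_surjective _ (MonoidHom.rangeRestrict_surjective (conjHom hS h2))
  obtain ⟨⟨s, r⟩, ⟨hs, hr, he⟩, -⟩ := structure_pair hS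
  set e0 : Mod hS h2 := Additive.ofMul ⟨s, hs.1, hs.2.2⟩ with he0
  have he00 : e0 ≠ 0 := fun h => hs.2.1 (congrArg (fun z : Mod hS h2 => (z.toMul : G)) h)
  obtain ⟨hcyc, -⟩ := exists_semilinear (eff_odd hS h2) (eff_solvable hS h2 hsolv) Nat.prime_two
    (mod_two hS h2) (PMTransitive.of_transitive (eff_trans hS h2)) he00
  have hV : ∀ d : two G a t, (conjHom hS h2).rangeRestrict d ∈ stabilizer (Eff hS h2) e0 ↔
      (d : G) ∈ two G a t ⊓ Subgroup.centralizer {t} := by
    intro d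
    have e : two G a t ⊓ Subgroup.centralizer {t} = two G a t ⊓ Subgroup.centralizer {s} :=
      (Cfsg.Agent.S1127.result hS).1 s r hs hr he
    rw [e, MulAction.mem_stabilizer_iff]
    constructor
    · intro h
      have h1 : (d : G) * s * (d : G)⁻¹ = s := congrArg (fun z : Mod hS h2 => (z.toMul : G)) h
      exact ⟨d.2, Subgroup.mem_centralizer_singleton_iff.mpr (mul_inv_eq_iff_eq_mul.mp h1)⟩
    · intro h
      refine congrArg Additive.ofMul (Subtype.ext ?_)
      change (d : G) * s * (d : G)⁻¹ = s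
      rw [Subgroup.mem_centralizer_singleton_iff.mp h.2]; group
  obtain ⟨g, hg⟩ := hcyc.exists_generator
  obtain ⟨v, hv⟩ := MonoidHom.rangeRestrict_surjective (conjHom hS h2) (g : Eff hS h2)
  have hvV := (hV v).mp (hv ▸ g.2)
  refine ⟨v, hvV, le_antisymm (sup_le inf_le_left ((Subgroup.closure_le _).mpr
    (Set.singleton_subset_iff.mpr hvV))) fun x hx => ?_⟩
  obtain ⟨n, hn⟩ := Subgroup.mem_zpowers_iff.mp (hg ⟨_, (hV ⟨x, hx.1⟩).mpr hx⟩)
  have hn' : (g : Eff hS h2) ^ n = (conjHom hS h2).rangeRestrict ⟨x, hx.1⟩ := by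
    rw [← SubgroupClass.coe_zpow, hn]
  have hv' : (conjHom hS h2).rangeRestrict (v ^ n) = (g : Eff hS h2) ^ n := by
    rw [map_zpow, hv]
  have hw : conjHom hS h2 ((⟨x, hx.1⟩ : two G a t) * (v ^ n)⁻¹) = 1 := by
    have e1 : conjHom hS h2 (v ^ n) = conjHom hS h2 ⟨x, hx.1⟩ := congrArg Subtype.val (hv'.trans hn')
    rw [map_mul, map_inv, e1, mul_inv_cancel]
  have h1 := (ker_iff hS h2 _).mp hw
  have h3 : (v : G) ^ n ∈ Subgroup.closure {(v : G)} :=
    zpow_mem (Subgroup.subset_closure (Set.mem_singleton _)) n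
  have h4 := Subgroup.mul_mem_sup h1 h3
  rw [Subgroup.coe_mul, Subgroup.coe_inv, SubgroupClass.coe_zpow, inv_mul_cancel_right] at h4
  exact h4

/-- A Sylow 2-subgroup of the regular normal part is abelian or a Suzuki 2-group. -/
theorem sylow_suzuki (hsolv : Group.IsSolvable (two G a t)) (S : Sylow 2 Q) :
    IsMulCommutative (S : Subgroup Q) ∨ IsSuzukiTwoGroup (S : Subgroup Q) := by
  by_cases hab : IsMulCommutative (S : Subgroup Q)
  · exact Or.inl hab
  refine Or.inr ?_
  haveI : Fact (Nat.Prime 2) := ⟨Nat.prime_two⟩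
  haveI := isNilpotent_Q hS h2
  obtain ⟨C, hC, hCcyc, -⟩ := inverted_cyclic_normal hS h2 hsolv
  have hSn : (S : Subgroup Q).Normal := inferInstance
  haveI : (S : Subgroup Q).Characteristic := S.characteristic_of_normal hSn
  have hmem : ∀ (s : G) (hs : s ∈ involutionsIn (stabilizer G a : Set G)),
      (⟨s, odd_mem_q hS hs.1 hs.2.2⟩ : Q) ∈ (S : Subgroup Q) := by
    intro s hs
    have hp : IsPGroup 2 (Subgroup.zpowers (⟨s, odd_mem_q hS hs.1 hs.2.2⟩ : Q)) :=
      IsPGroup.of_card (n := 1) (by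
        rw [Nat.card_zpowers, Subgroup.orderOf_mk, pow_one]
        exact orderOf_eq_prime (by rw [pow_two]; exact hs.2.2) hs.2.1)
    obtain ⟨P, hP⟩ := hp.exists_le_sylow
    letI := Sylow.unique_of_normal S hSn
    exact Subsingleton.elim P S ▸ hP (Subgroup.mem_zpowers _)
  have hSinv : ∀ x : (S : Subgroup Q), x ≠ 1 → x * x = 1 →
      ((x : Q) : G) ∈ involutionsIn (stabilizer G a : Set G) := fun x hx1 hx =>
    ⟨hS.le (x : Q).2, fun h => hx1 (Subtype.ext (Subtype.ext h)),
      congrArg (fun z : (S : Subgroup Q) => ((z : Q) : G)) hx⟩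
  let ρ : C →* MulAut Q :=
    MonoidHom.mk' (fun c =>
      { toFun := fun x => ⟨c * x * (c : G)⁻¹,
          hS.conj_mem c ((hC ▸ c.2 : (c : G) ∈ invertedBy (two G a t) t)).1.1 x x.2⟩
        invFun := fun x => ⟨(c : G)⁻¹ * x * c,
          conj_mem' hS ((hC ▸ c.2 : (c : G) ∈ invertedBy (two G a t) t)).1.1 x.2⟩
        left_inv := fun x => Subtype.ext (show (c : G)⁻¹ * (c * x * (c : G)⁻¹) * c = x by group)
        right_inv := fun x => Subtype.ext (show (c : G) * ((c : G)⁻¹ * x * c) * (c : G)⁻¹ = x by group)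
        map_mul' := fun x y => Subtype.ext
          (show (c : G) * ((x : G) * y) * (c : G)⁻¹ = c * x * (c : G)⁻¹ * (c * y * (c : G)⁻¹) by group) })
      (fun c d => MulEquiv.ext fun x => Subtype.ext
        (show (c : G) * d * x * ((c : G) * d)⁻¹ = c * (d * x * (d : G)⁻¹) * (c : G)⁻¹ by group))
  have hmap : ∀ c, (S : Subgroup Q).map (ρ c : Q →* Q) = S := fun c =>
    Subgroup.characteristic_iff_map_eq.mp inferInstance (ρ c)
  let σ : C →* MulAut (S : Subgroup Q) :=
    MonoidHom.mk' (fun c => ((ρ c).subgroupMap (S : Subgroup Q)).trans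
        (MulEquiv.subgroupCongr (hmap c)))
      (fun c d => MulEquiv.ext fun x => Subtype.ext (show ρ (c * d) (x : Q) = ρ c (ρ d x) by
        rw [map_mul]; rfl))
  have hσ : ∀ (c : C) (x : (S : Subgroup Q)),
      (((σ c x : (S : Subgroup Q)) : Q) : G) = c * ((x : Q) : G) * (c : G)⁻¹ := fun _ _ => rfl
  obtain ⟨s, s', hs, hs', hne⟩ := exists_two_invol hS h2
  have hcomm : ∃ x y : (S : Subgroup Q), x * y ≠ y * x := by
    by_contra h
    push Not at h
    exact hab ⟨⟨h⟩⟩
  refine ⟨inferInstance, S.isPGroup', hcomm,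
    ⟨⟨_, hmem s hs⟩, ⟨_, hmem s' hs'⟩,
      fun h => hne (congrArg (fun z : (S : Subgroup Q) => ((z : Q) : G)) h),
      fun h => hs.2.1 (congrArg (fun z : (S : Subgroup Q) => ((z : Q) : G)) h),
      Subtype.ext (Subtype.ext hs.2.2),
      fun h => hs'.2.1 (congrArg (fun z : (S : Subgroup Q) => ((z : Q) : G)) h),
      Subtype.ext (Subtype.ext hs'.2.2)⟩, σ.range, ?_, ?_⟩
  · exact isCyclic_of_surjective σ.rangeRestrict (MonoidHom.rangeRestrict_surjective _)
  intro x y hx1 hx hy1 hy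
  -- counting
  have hcard : Nat.card C = Nat.card (involutionsIn (stabilizer G a : Set G)) := by
    rw [← card_inverted hS, ← hC]; rfl
  have hxI := hSinv x hx1 hx
  let T : C → involutionsIn (stabilizer G a : Set G) := fun c =>
    ⟨(c : G) * ((x : Q) : G) * (c : G)⁻¹, by
      have hc : (c : G) ∈ invertedBy (two G a t) t := hC ▸ c.2
      have := invol_conj_mem hS (inv_mem hc.1) hxI
      rwa [inv_inv] at this⟩
  have hTs : Function.Surjective T := fun u => by
    obtain ⟨k, hk, he⟩ := exists_conj_inverted hS hxI u.2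
    have hkC : k ∈ C := by rw [← SetLike.mem_coe, hC]; exact hk
    exact ⟨⟨k⁻¹, inv_mem hkC⟩, Subtype.ext (by change k⁻¹ * _ * k⁻¹⁻¹ = _; rw [inv_inv]; exact he)⟩
  have hTb : Function.Bijective T := (Nat.bijective_iff_surjective_and_card T).mpr ⟨hTs, hcard⟩
  obtain ⟨c, hc⟩ := hTs ⟨_, hSinv y hy1 hy⟩
  refine ⟨⟨σ c, c, rfl⟩, Subtype.ext (Subtype.ext ?_), ?_⟩
  · exact congrArg (fun z : involutionsIn (stabilizer G a : Set G) => (z : G)) hc
  rintro ⟨_, d, rfl⟩ hd
  have hd' : T d = T c := by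
    rw [hc]
    exact Subtype.ext (congrArg (fun z : (S : Subgroup Q) => ((z : Q) : G)) hd)
  exact Subtype.ext (congrArg σ (hTb.1 hd'))

end CfsgLib.LocalEvenB.OddTransitive.RankOneCase
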