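import Mathlib
import Cfsg.Prelude.Def_Perm
import Cfsg.Agent.Lib.LocalEvenB.OddTransitive.Semilinear

/-!
# Groups transitive on unordered but not on ordered pairs are semiaffine

Everything assumes that such a group, being of odd order, is solvable.
-/

set_option autoImplicit false
set_option linter.style.haveILetI false
set_option linter.unusedSectionVars false

open Cfsg
open scoped Pointwise commutatorElement

namespace CfsgLib.LocalEvenB.OddTransitive.Homogeneous

/-- A nontrivial solvable group has a nontrivial abelian normal subgroup of prime exponent. -/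
theorem exists_elementary {G : Type*} [Group G] [Finite G] [Nontrivial G]
    (hsolv : Group.IsSolvable G) :
    ∃ (p : ℕ) (N : Subgroup G), p.Prime ∧ N.Normal ∧ N ≠ ⊥ ∧
      (∀ x ∈ N, ∀ y ∈ N, x * y = y * x) ∧ ∀ x ∈ N, x ^ p = 1 := by
  classical
  have hex := (Group.isSolvable_def G).mp hsolv
  have hn : Nat.find hex ≠ 0 := fun h => by
    have := Nat.find_spec hex
    rw [h, derivedSeries_zero] at this
    exact top_ne_bot this
  obtain ⟨m, hm⟩ := Nat.exists_eq_succ_of_ne_zero hn
  set A := derivedSeries G m with hA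
  have hAbot : A ≠ ⊥ := Nat.find_min hex (by omega)
  have hAc : ∀ x ∈ A, ∀ y ∈ A, x * y = y * x := fun x hx y hy => by
    have h : ⁅A, A⁆ = ⊥ := by
      rw [hA, ← derivedSeries_succ]
      have := Nat.find_spec hex
      rwa [hm] at this
    exact (Subgroup.mem_centralizer_iff.mp
      (Subgroup.commutator_eq_bot_iff_le_centralizer.mp h hx) y hy).symm
  haveI : A.Normal := derivedSeries_normal G m
  have hA1 : Nat.card A ≠ 1 := fun h => hAbot (Subgroup.card_eq_one.mp h)
  set p := (Nat.card A).minFac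
  have hp : p.Prime := Nat.minFac_prime hA1
  haveI := Fact.mk hp
  obtain ⟨z, hz⟩ := exists_prime_orderOf_dvd_card' (G := A) p (Nat.minFac_dvd _)
  let N : Subgroup G :=
    { carrier := {x | x ∈ A ∧ x ^ p = 1}
      one_mem' := ⟨one_mem _, one_pow _⟩
      inv_mem' := fun {x} hx => ⟨inv_mem hx.1, by rw [inv_pow, hx.2, inv_one]⟩
      mul_mem' := fun {x y} hx hy => ⟨mul_mem hx.1 hy.1, by
        rw [Commute.mul_pow (hAc x hx.1 y hy.1), hx.2, hy.2, one_mul]⟩ }
  refine ⟨p, N, hp, ⟨fun x hx g => ⟨‹A.Normal›.conj_mem x hx.1 g, ?_⟩⟩, fun hbot => ?_,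
    fun x hx y hy => hAc x hx.1 y hy.1, fun x hx => hx.2⟩
  · rw [conj_pow, hx.2, mul_one, mul_inv_cancel]
  · have hz1 : (z : G) ∈ N := ⟨z.2, by
      rw [← Subgroup.coe_pow, ← hz, pow_orderOf_eq_one]; rfl⟩
    rw [hbot, Subgroup.mem_bot] at hz1
    rw [show z = 1 from Subtype.ext hz1, orderOf_one] at hz
    exact hp.ne_one hz.symm

variable {α : Type*} [Fintype α] [DecidableEq α] {G : Subgroup (Equiv.Perm α)}

/-- Two pairs are mapped to each other in some order. -/
theorem exists_pair (h2 : MulAction.IsPretransitive G (Set.powersetCard α 2)) {a b c d : α}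
    (hab : a ≠ b) (hcd : c ≠ d) :
    ∃ g : G, (g • a = c ∧ g • b = d) ∨ (g • a = d ∧ g • b = c) := by
  obtain ⟨g, hg⟩ := MulAction.exists_smul_eq G
    (⟨{a, b}, Finset.card_pair hab⟩ : Set.powersetCard α 2) ⟨{c, d}, Finset.card_pair hcd⟩
  have h : g • ({a, b} : Finset α) = {c, d} := by
    rw [show (g • ({a, b} : Finset α)) =
      ((g • (⟨{a, b}, Finset.card_pair hab⟩ : Set.powersetCard α 2) : Set.powersetCard α 2) : Finset α)
      from rfl, hg]
  have ha : g • a ∈ ({c, d} : Finset α) := h ▸ Finset.smul_mem_smul_finset (by simp)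
  have hb : g • b ∈ ({c, d} : Finset α) := h ▸ Finset.smul_mem_smul_finset (by simp)
  simp only [Finset.mem_insert, Finset.mem_singleton] at ha hb
  have hne : g • a ≠ g • b := fun e => hab (smul_left_cancel g e)
  refine ⟨g, ?_⟩
  rcases ha with ha | ha <;> rcases hb with hb | hb
  · exact absurd (ha.trans hb.symm) hne
  · exact Or.inl ⟨ha, hb⟩
  · exact Or.inr ⟨ha, hb⟩
  · exact absurd (ha.trans hb.symm) hne

theorem odd_card (h2 : MulAction.IsPretransitive G (Set.powersetCard α 2))
    (hn2 : ¬ MulAction.IsMultiplyPretransitive G α 2) : Odd (Nat.card G) := by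
  rw [← Nat.not_even_iff_odd]
  intro hev
  apply hn2
  haveI := Fact.mk Nat.prime_two
  obtain ⟨g, hg⟩ := exists_prime_orderOf_dvd_card' (G := G) 2 (even_iff_two_dvd.mp hev)
  have hgg : g * g = 1 := by rw [← pow_two, ← hg, pow_orderOf_eq_one]
  obtain ⟨x, hx⟩ : ∃ x : α, g • x ≠ x := by
    by_contra h
    push Not at h
    have : g = 1 := Subtype.ext (Equiv.ext h)
    rw [this, orderOf_one] at hg
    exact absurd hg (by omega)
  rw [MulAction.is_two_pretransitive_iff]
  intro a b c d hab hcd
  obtain ⟨g1, h | h⟩ := exists_pair h2 hab hcd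
  · exact ⟨g1, h⟩
  obtain ⟨g2, hg2⟩ := exists_pair h2 (Ne.symm hx) hcd
  have hswap : g • g • x = x := by rw [smul_smul, hgg, one_smul]
  refine ⟨g2 * g * g2⁻¹ * g1, ?_, ?_⟩
  all_goals
    simp only [mul_smul, h.1, h.2]
    rcases hg2 with e | e
  · rw [← e.2, inv_smul_smul, hswap, e.1]
  · rw [← e.1, inv_smul_smul, e.2]
  · rw [← e.1, inv_smul_smul, e.2]
  · rw [← e.2, inv_smul_smul, hswap, e.1]

/-- A nontrivial normal subgroup is transitive. -/
theorem normal_transitive (h2 : MulAction.IsPretransitive G (Set.powersetCard α 2))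
    (N : Subgroup G) [N.Normal] (hN : N ≠ ⊥) (x y : α) : ∃ n ∈ N, n • x = y := by
  by_cases hxy : x = y
  · exact ⟨1, one_mem _, by rw [one_smul, hxy]⟩
  obtain ⟨m, hm, hm1⟩ := N.bot_or_exists_ne_one.resolve_left hN
  obtain ⟨z, hz⟩ : ∃ z : α, m • z ≠ z := by
    by_contra h
    push Not at h
    exact hm1 (Subtype.ext (Equiv.ext h))
  obtain ⟨g, ⟨e1, e2⟩ | ⟨e1, e2⟩⟩ := exists_pair h2 (Ne.symm hz) hxy
  · refine ⟨g * m * g⁻¹, ‹N.Normal›.conj_mem m hm g, ?_⟩
    rw [mul_smul, mul_smul, ← e1, inv_smul_smul, e2]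
  · refine ⟨g * m⁻¹ * g⁻¹, ‹N.Normal›.conj_mem _ (inv_mem hm) g, ?_⟩
    rw [mul_smul, mul_smul, ← e2, inv_smul_smul, inv_smul_smul, e1]

set_option maxHeartbeats 1600000 in
/-- The classification of these groups. -/
theorem main (G : Subgroup (Equiv.Perm α)) (hne : G ≠ ⊥)
    (h2 : MulAction.IsPretransitive G (Set.powersetCard α 2))
    (hn2 : ¬ MulAction.IsMultiplyPretransitive G α 2)
    (hsolv : Odd (Nat.card G) → Group.IsSolvable G) :
    Odd (Nat.card G) ∧ ∃ (p f : ℕ) (_ : Fact p.Prime), p ≠ 2 ∧ Fintype.card α = p ^ f ∧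
      p ^ f % 4 = 3 ∧ ∃ e : α ≃ GaloisField p f,
        (∀ g : G, e.symm.trans (((g : Equiv.Perm α)).trans e) ∈ Cfsg.semiaffineGroup (GaloisField p f)) ∧
        ∀ b : GaloisField p f, ∃ g : G, ∀ x : α, e ((g : Equiv.Perm α) x) = e x + b := by
  classical
  have hoddG := odd_card h2 hn2
  refine ⟨hoddG, ?_⟩
  haveI := hsolv hoddG
  haveI : Nontrivial G := (Subgroup.nontrivial_iff_ne_bot G).mpr hne
  obtain ⟨p, N, hp, hNn, hN, hNc, hNp⟩ := exists_elementary (G := G) inferInstance
  haveI := hNn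
  haveI := Fact.mk hp
  obtain ⟨a⟩ : Nonempty α := by
    by_contra h
    rw [not_nonempty_iff] at h
    exact hne (Subgroup.eq_bot_of_subsingleton G)
  have htN := normal_transitive h2 N hN
  have hfree : ∀ n ∈ N, n • a = a → n = 1 := fun n hn hna => Subtype.ext (Equiv.ext fun x => by
    obtain ⟨m, hm, rfl⟩ := htN a x
    change n • m • a = m • a
    rw [smul_smul, hNc n hn m hm, mul_smul, hna])
  have hbij : Function.Bijective (fun n : N => (n : G) • a) := by
    refine ⟨fun n m h => ?_, fun x => ?_⟩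
    · have h1 := hfree ((m : G)⁻¹ * n) (mul_mem (inv_mem m.2) n.2)
        (by rw [mul_smul, show (n : G) • a = (m : G) • a from h, inv_smul_smul])
      exact Subtype.ext (inv_mul_eq_one.mp h1).symm
    · obtain ⟨n, hn, hx⟩ := htN a x
      exact ⟨⟨n, hn⟩, hx⟩
  letI : CommGroup N :=
    { (inferInstance : Group N) with mul_comm := fun x y => Subtype.ext (hNc x x.2 y y.2) }
  set D := MulAction.stabilizer G a with hD
  letI : DistribMulAction D (Additive N) :=
    { smul := fun d x => Additive.ofMul (MulAut.conjNormal (d : G) x.toMul)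
      one_smul := fun x => congrArg Additive.ofMul (by rw [Subgroup.coe_one, map_one]; rfl)
      mul_smul := fun d e x => congrArg Additive.ofMul (by rw [Subgroup.coe_mul, map_mul]; rfl)
      smul_zero := fun d => congrArg Additive.ofMul (map_one _)
      smul_add := fun d x y => congrArg Additive.ofMul (map_mul _ _ _) }
  have hsmul : ∀ (d : D) (n : N),
      (((d • Additive.ofMul n : Additive N).toMul : N) : G) • a = (d : G) • (n : G) • a := by
    intro d n
    change (((MulAut.conjNormal (d : G) n : N) : G)) • a = _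
    rw [MulAut.conjNormal_apply, mul_smul, mul_smul,
      inv_smul_eq_iff.mpr (show a = (d : G) • a from d.2.symm)]
  haveI : FaithfulSMul D (Additive N) := ⟨fun {d e} h => Subtype.ext (Subtype.ext (Equiv.ext fun x => by
    obtain ⟨n, rfl⟩ := hbij.2 x
    change (d : G) • (n : G) • a = (e : G) • (n : G) • a
    rw [← hsmul d n, ← hsmul e n, h]))⟩
  haveI : Nontrivial (Additive N) := Additive.ofMul.nontrivial_congr.mp ((Subgroup.nontrivial_iff_ne_bot N).mpr hN)
  have hoddD : Odd (Nat.card D) := Odd.of_dvd_nat hoddG D.card_subgroup_dvd_card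
  have hE : ∀ x : Additive N, p • x = 0 := fun x => by
    change Additive.ofMul (x.toMul ^ p) = Additive.ofMul 1
    exact congrArg _ (Subtype.ext (hNp _ x.toMul.2))
  have htrans : PMTransitive D (Additive N) := by
    intro x y hx hy
    have hx' : a ≠ (x.toMul : G) • a := fun h => hx (congrArg Additive.ofMul (Subtype.ext (hfree _ x.toMul.2 h.symm)))
    have hy' : a ≠ (y.toMul : G) • a := fun h => hy (congrArg Additive.ofMul (Subtype.ext (hfree _ y.toMul.2 h.symm)))
    obtain ⟨g, ⟨e1, e2⟩ | ⟨e1, e2⟩⟩ := exists_pair h2 hx' hy'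
    · refine ⟨⟨g, e1⟩, Or.inl (congrArg Additive.ofMul (hbij.1 ?_))⟩
      exact (hsmul ⟨g, e1⟩ x.toMul).trans e2
    · have hd : ((y.toMul : G)⁻¹ * g) • a = a := by rw [mul_smul, e1, inv_smul_smul]
      refine ⟨⟨_, hd⟩, Or.inr (congrArg Additive.ofMul (hbij.1 ?_))⟩
      refine (hsmul ⟨_, hd⟩ x.toMul).trans ?_
      change ((y.toMul : G)⁻¹ * g) • (x.toMul : G) • a = (y.toMul : G)⁻¹ • a
      rw [mul_smul, e2]
  -- the field
  obtain ⟨v, hv⟩ := exists_ne (0 : Additive N)
  obtain ⟨-, R, hR, ψ, -, hψ⟩ :=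
    exists_semilinear hoddD inferInstance hp hE htrans hv
  letI : Field R := hR.toField
  haveI : Finite (AddMonoid.End (Additive N)) := Finite.of_injective _ DFunLike.coe_injective
  -- the degree
  have hNα : Nat.card N = Fintype.card α := by
    rw [Nat.card_congr (Equiv.ofBijective _ hbij), Nat.card_eq_fintype_card]
  obtain ⟨f, hf⟩ : ∃ f, Nat.card N = p ^ f :=
    IsPGroup.exists_card_eq (fun x => ⟨1, by rw [pow_one]; exact Subtype.ext (hNp x x.2)⟩)
  have hf0 : f ≠ 0 := fun h => hN (Subgroup.card_eq_one.mp (by rw [hf, h, pow_zero]))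
  have hp2 : p ≠ 2 := by
    rintro rfl
    refine Nat.not_even_iff_odd.mpr hoddG (even_iff_two_dvd.mpr (dvd_trans ?_ N.card_subgroup_dvd_card))
    rw [hf]; exact dvd_pow_self 2 hf0
  have horb : ∀ x ∈ MulAction.orbit D v, x ≠ 0 ∧ -x ∉ MulAction.orbit D v := by
    rintro _ ⟨d, rfl⟩
    refine ⟨(smul_ne_zero_iff_ne _).mpr hv, ?_⟩
    rintro ⟨d', hd'⟩
    change d' • v = -(d • v) at hd'
    have h1 : (d⁻¹ * d') • v = -v := by rw [mul_smul, hd', smul_neg, inv_smul_smul]
    set c := d⁻¹ * d' with hc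
    have h3 : (c * c) • v = v := by rw [mul_smul, h1, smul_neg, h1, neg_neg]
    obtain ⟨m, hm⟩ := hoddD
    have h4 : c • v = v := by
      have : c = (c * c) ^ (m + 1) := by
        rw [← pow_two, ← pow_mul, show 2 * (m + 1) = 2 * m + 1 + 1 by ring, pow_succ, ← hm,
          pow_card_eq_one', one_mul]
      rw [this]
      exact (MulAction.stabilizer D v).pow_mem h3 _
    rw [h4] at h1
    have h5 : 2 • v = 0 := by rw [two_nsmul, ← eq_neg_iff_add_eq_zero]; exact h1
    exact hv (CfsgLib.RankOne.ConstStab.eq_zero_of_nsmul Nat.prime_two hp hp2.symm hE h5)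
  have hmod : p ^ f % 4 = 3 := by
    let T : Option (MulAction.orbit D v × Bool) → Additive N := fun o =>
      o.elim 0 fun z => bif z.2 then (z.1 : Additive N) else -(z.1 : Additive N)
    have hT : Function.Bijective T := by
      refine ⟨?_, fun x => ?_⟩
      · have hb : ∀ z, T (some z) ≠ 0 := fun ⟨z, b⟩ => by
          cases b
          · exact neg_ne_zero.mpr (horb z z.2).1
          · exact (horb z z.2).1
        rintro (_ | ⟨z, b⟩) (_ | ⟨z', b'⟩) h
        · rfl
        · exact absurd h.symm (hb _)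
        · exact absurd h (hb _)
        · cases b <;> cases b'
          · exact congrArg some (Prod.ext (Subtype.ext (neg_inj.mp h)) rfl)
          · exact absurd (show -(z : Additive N) ∈ MulAction.orbit D v by
              rw [show -(z : Additive N) = z' from h]; exact z'.2) (horb z z.2).2
          · exact absurd (show -(z' : Additive N) ∈ MulAction.orbit D v by
              rw [show -(z' : Additive N) = z from h.symm]; exact z.2) (horb z' z'.2).2
          · exact congrArg some (Prod.ext (Subtype.ext h) rfl)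
      · by_cases hx : x = 0
        · exact ⟨none, hx.symm⟩
        obtain ⟨d, h | h⟩ := htrans v x hv hx
        · exact ⟨some (⟨_, d, rfl⟩, true), h⟩
        · exact ⟨some (⟨_, d, rfl⟩, false), by
            change -(d • v) = x
            rw [h, neg_neg]⟩
    have hc := Nat.card_congr (Equiv.ofBijective T hT)
    rw [Finite.card_option, Nat.card_prod, Nat.card_eq_fintype_card (α := Bool), Fintype.card_bool,
      show Nat.card (Additive N) = p ^ f from (Nat.card_congr Additive.toMul).trans hf] at hc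
    obtain ⟨k, hk⟩ : Odd (Nat.card (MulAction.orbit D v)) :=
      Odd.of_dvd_nat hoddD ⟨Nat.card (MulAction.stabilizer D v), by
        rw [← Nat.card_prod]; exact Nat.card_congr (MulAction.orbitProdStabilizerEquivGroup D v).symm⟩
    omega
  refine ⟨p, f, inferInstance, hp2, hNα ▸ hf, hmod, ?_⟩
  haveI : Fintype R := Fintype.ofFinite R
  haveI : Fintype (GaloisField p f) := Fintype.ofFinite _
  have hcard : Fintype.card R = Fintype.card (GaloisField p f) := by
    rw [← Nat.card_eq_fintype_card, ← Nat.card_eq_fintype_card, GaloisField.card p f hf0, ← hf,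
      ← Nat.card_congr ψ.toEquiv]
    exact Nat.card_congr Additive.toMul
  let θ : R ≃+* GaloisField p f := FiniteField.ringEquivOfCardEq hcard
  let Θ : Additive N ≃+ GaloisField p f := ψ.trans θ.toAddEquiv
  let β : N ≃ α := Equiv.ofBijective _ hbij
  let e : α ≃ GaloisField p f := β.symm.trans (Additive.ofMul.trans Θ.toEquiv)
  have he : ∀ n : N, e ((n : G) • a) = Θ (Additive.ofMul n) := fun n => by
    change Θ (Additive.ofMul (β.symm (β n))) = _
    rw [Equiv.symm_apply_apply]
  refine ⟨e, fun g => ?_, fun b => ?_⟩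
  · obtain ⟨n, hn⟩ := hbij.2 (g • a)
    have hd : ((n : G)⁻¹ * g) • a = a := by
      rw [mul_smul, ← show (n : G) • a = g • a from hn, inv_smul_smul]
    obtain ⟨u, σ, hu⟩ := hψ ⟨_, hd⟩
    refine ⟨Units.map (θ : R →* GaloisField p f) u, Θ (Additive.ofMul n),
      θ.symm.trans (σ.trans θ), fun z => ?_⟩
    obtain ⟨x, rfl⟩ := e.surjective z
    obtain ⟨m, rfl⟩ := hbij.2 x
    change e ((g : Equiv.Perm α) (e.symm (e ((m : G) • a)))) = _
    rw [Equiv.symm_apply_apply, he]
    have hgm : g • (m : G) • a =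
        (((n * ((⟨_, hd⟩ : D) • Additive.ofMul m).toMul : N)) : G) • a := by
      rw [Subgroup.coe_mul, mul_smul (n : G), hsmul]
      change g • (m : G) • a = (n : G) • ((n : G)⁻¹ * g) • (m : G) • a
      rw [mul_smul ((n : G)⁻¹) g, smul_inv_smul]
    rw [show (g : Equiv.Perm α) ((m : G) • a) = g • (m : G) • a from rfl, hgm, he]
    change Θ (Additive.ofMul n + (⟨_, hd⟩ : D) • Additive.ofMul m) = _
    rw [map_add, add_comm]
    congr 1
    change θ (ψ ((⟨_, hd⟩ : D) • Additive.ofMul m)) = θ (u : R) * θ (σ (θ.symm (θ (ψ (Additive.ofMul m)))))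
    rw [θ.symm_apply_apply, hu, map_mul]
  · refine ⟨((Θ.symm b).toMul : G), fun x => ?_⟩
    obtain ⟨m, rfl⟩ := hbij.2 x
    change e (((Θ.symm b).toMul : G) • (m : G) • a) = e ((m : G) • a) + b
    rw [smul_smul, ← Subgroup.coe_mul, he, he]
    change Θ (Θ.symm b + Additive.ofMul m) = _
    rw [map_add, Θ.apply_symm_apply, add_comm]

end CfsgLib.LocalEvenB.OddTransitive.Homogeneous
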